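import Cfsg.Agent.Comp.F42.Main
import Cfsg.Agent.Comp.Sign

set_option autoImplicit false
set_option maxRecDepth 100000

namespace Cfsg.Agent.Comp.F42
open Cfsg.Agent.Comp

def O : List Nat := [3, 4]

noncomputable def eps : G →* ℤˣ := (pres.isSign (O := O) (by decide +kernel)).choose

theorem sign : IsSign s 6 O eps := (pres.isSign (O := O) (by decide +kernel)).choose_spec

theorem index2 : eps.ker.index = 2 := sign.index (x := 3) (by norm_num) (by decide)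

theorem cardK : Nat.card eps.ker = 17971200 := card_eq_of_index (n := 2) card.2.1 index2 (by norm_num)

namespace Col

noncomputable def t0 : Tr := (Tr.leaf (nat_lit 0x85519503dffffff01511dfff83517dfffffffff15e13f015815ffffffffffff0fdffffff871250fff011035fffffffff851151fffffffff011fff13a831179111ffffff0fafff0118111f7191ffffff199011fff892217ffffff0121d7ffffff8722b1211012232237211fff4b0072010ffffff033ffffff4902711bdfff0101b51bd01d450050032ffffff010fff0364300b2fffffffff092fff010410ffffffffffff0d20100d0470fff3110102901712d12f1000fff3502b1031070310330))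

noncomputable def T : Tr := t0

def RT : List (List (List Nat)) := [
  [[nat_lit 2, nat_lit 5],
   [nat_lit 0]],
  [[nat_lit 5, nat_lit 2],
   [nat_lit 0, nat_lit 0, nat_lit 0],
   [nat_lit 1],
   [nat_lit 4, nat_lit 4, nat_lit 2, nat_lit 3, nat_lit 0, nat_lit 2, nat_lit 4, nat_lit 2, nat_lit 3, nat_lit 3]],
  [[nat_lit 2],
   [nat_lit 5, nat_lit 1],
   [nat_lit 0, nat_lit 4, nat_lit 0, nat_lit 2, nat_lit 1, nat_lit 3, nat_lit 1],
   [nat_lit 1, nat_lit 3, nat_lit 1, nat_lit 2, nat_lit 0, nat_lit 4, nat_lit 0],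
   [nat_lit 1, nat_lit 1, nat_lit 2, nat_lit 1, nat_lit 2, nat_lit 0],
   [nat_lit 3, nat_lit 1, nat_lit 3, nat_lit 2, nat_lit 4, nat_lit 4, nat_lit 1, nat_lit 1, nat_lit 2, nat_lit 3, nat_lit 1, nat_lit 3]],
  [[nat_lit 4, nat_lit 4, nat_lit 4],
   [nat_lit 3]],
  [],
  [[nat_lit 2, nat_lit 0],
   [nat_lit 5]],
  [[nat_lit 0, nat_lit 5, nat_lit 0, nat_lit 5, nat_lit 0, nat_lit 5],
   [nat_lit 1, nat_lit 0],
   [nat_lit 2, nat_lit 1, nat_lit 1, nat_lit 2, nat_lit 1, nat_lit 2, nat_lit 0],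
   [nat_lit 2, nat_lit 0, nat_lit 2, nat_lit 1, nat_lit 1, nat_lit 2, nat_lit 1],
   [nat_lit 2, nat_lit 5, nat_lit 3, nat_lit 3, nat_lit 5, nat_lit 0, nat_lit 2, nat_lit 3, nat_lit 0, nat_lit 3, nat_lit 2, nat_lit 3, nat_lit 3],
   [nat_lit 2, nat_lit 2],
   [nat_lit 3, nat_lit 3, nat_lit 1, nat_lit 4, nat_lit 4, nat_lit 2, nat_lit 3, nat_lit 2, nat_lit 1, nat_lit 4, nat_lit 2],
   [nat_lit 4, nat_lit 3],
   [nat_lit 3, nat_lit 0, nat_lit 0, nat_lit 4, nat_lit 5, nat_lit 3, nat_lit 0, nat_lit 4, nat_lit 5, nat_lit 3, nat_lit 1, nat_lit 4, nat_lit 5]]]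

def HT : List (List (Nat × Nat × Nat)) := [
  [(1, 0, 0), (0, 1, 0)],
  [(0, 0, 1), (0, 7, 0), (0, 1, 1), (0, 12, 7)],
  [(0, 3, 0), (1, 0, 1), (0, 10, 6), (0, 10, 2), (1, 8, 5), (1, 20, 5)],
  [(1, 9, 0), (0, 4, 0)],
  [],
  [(0, 0, 2), (0, 6, 0)],
  [(0, 15, 0), (0, 1, 1), (1, 8, 4), (1, 8, 2), (0, 17, 8), (0, 3, 0), (1, 12, 2), (0, 4, 1), (0, 19, 12)]]

def R : List (List Nat) :=
  [[0, 5, 2],
   [0, 1],
   [1, 0],
   [2, 2],
   [3, 4],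
   [4, 3],
   [5, 5],
   [0, 0, 0, 0],
   [0, 0, 2, 1, 2, 0, 2],
   [3, 3, 3, 3],
   [0, 2, 1, 3, 1, 2, 0, 4],
   [0, 2, 0, 3, 1, 2, 0, 4, 2],
   [0, 2, 4, 2, 3, 3, 0, 4, 4, 2, 3],
   [0, 0, 3, 0, 0, 3, 1, 1, 3, 1, 1, 3],
   [0, 4, 2, 3, 1, 3, 0, 4, 2, 3, 1, 4],
   [0, 5, 0, 5, 0, 5],
   [3, 5, 3, 5, 3, 5, 3, 5],
   [0, 2, 3, 0, 3, 2, 3, 3, 2, 5, 3, 3, 5],
   [2, 3, 5, 2, 3, 5, 2, 3, 5, 2, 3, 5],
   [0, 0, 4, 5, 3, 0, 4, 5, 3, 1, 4, 5, 3],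
   [0, 0, 3, 3, 2, 4, 0, 4, 2, 4, 0, 4, 2],
   [0, 2, 4, 5, 0, 3, 3, 1, 4, 0, 5, 2, 1, 3, 3],
   [0, 0, 4, 0, 3, 1, 2, 1, 4, 2, 0, 2, 3],
   [0, 2, 3, 0, 4, 2, 5, 4, 4, 5, 3, 2, 4]]

def W : List (List Nat) := []

noncomputable def P : Par := ⟨T, (nat_lit 4), (nat_lit 15), (nat_lit 96), (nat_lit 12), (nat_lit 4095), (nat_lit 5), (nat_lit 31), (nat_lit 6), (nat_lit 18), (nat_lit 32), (nat_lit 0x398a320801), RT⟩

noncomputable def J0 : List Nat := [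
  nat_lit 0x5298010620040817c008b137801062570021c612049e00438c24f0020c4104106105b400418820832809c000e58da0008310610419400106214a5000306289fc008b13f8010630827f0021c479001be2083380021c4106194d20031c4133801162630020c4c600438c2670021c4bd282f4a0bd28003631041bd282b1580000c5c610414ce0022e20c29ac00c31041358010e378c57a50560e4001a98c20ea0250003962082599dc00638ea00083106104104351bb5000e588208358000c3184100bc17a50005b6208256094560073c41041061fc000638fafd5800064c410413f563f00039e2094208247b000c71]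

theorem c0 : chk T (nat_lit 4) (nat_lit 15) (nat_lit 96) (nat_lit 12) (nat_lit 4095) (nat_lit 5) (nat_lit 31) (nat_lit 6) (nat_lit 18) (nat_lit 32) (nat_lit 0x398a320801) (nat_lit 4) (nat_lit 15) RT (nat_lit 16) J0 (nat_lit 16) = true := by
  decide +kernel

theorem r0 : P.RowsOK 16 32 := chk_sound P _ _ _ J0 _ _ (by decide +kernel) c0

theorem index.{u} : IndexLe.{u} 6 R W 2 :=
  indexLe_of_cert P HT (by decide +kernel)
    (show P.RowsOK 16 32 from r0)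

end Col

def V : List (List Nat) := [[0],
   [1],
   [2],
   [5],
   [3, 3],
   [3, 0, 4],
   [3, 1, 4],
   [3, 2, 4],
   [3, 5, 4]]

def WK : List (List Nat) := [[0],
   [1],
   [2],
   [3, 3],
   [3, 0, 4],
   [3, 1, 4],
   [3, 2, 4]]

theorem transK : ∀ i < 1755, ∃ g ∈ eps.ker, phi g 0 = i :=
  rep.trans_sub (V := V) (sch := [3, 0, 2, 0, 3, 2, 0, 3, 2, 0, 3, 2, 0, 3, 2, 0, 3, 2, 0, 3, 0]) (by decide +kernel) (sign.le (by decide +kernel) (by decide +kernel)) (by decide +kernel)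

def primKT : List (List Nat × List Nat) :=
  [([5, 0, 3, 5, 4, 0, 5], [0, 1, 1, 3, 4, 1, 3, 0, 1, 1, 3, 4, 1, 3, 0, 1, 1, 3, 4, 1, 3, 0, 1, 1, 3]),
   ([5, 3, 5, 4], [0, 1, 3, 1, 1, 3, 4, 1, 3, 1, 0, 3, 1, 1, 3, 1, 4, 3, 1, 3, 1, 3, 1, 4, 1]),
   ([5], [0, 1, 3, 0, 1, 3, 0, 1, 3, 0, 1, 3, 0, 1, 3, 0, 1, 3, 0, 3]),
   ([5, 0, 3, 5, 4], [0, 1, 3, 1, 1, 4, 3, 1, 1, 3, 1, 4, 3, 1, 3, 1, 0, 3, 1, 3, 1, 3, 1])]

theorem primK_0 : Nat.beq (grow T ([5, 0, 3, 5, 4, 0, 5] :: WK) [0, 1, 1, 3, 4, 1, 3, 0, 1, 1, 3, 4, 1, 3, 0, 1, 1, 3, 4, 1, 3, 0, 1, 1, 3] (pt (nat_lit 0))) (ivl (nat_lit 0) (nat_lit 1755)) = true := by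
  decide +kernel

theorem primK_1 : Nat.beq (grow T ([5, 3, 5, 4] :: WK) [0, 1, 3, 1, 1, 3, 4, 1, 3, 1, 0, 3, 1, 1, 3, 1, 4, 3, 1, 3, 1, 3, 1, 4, 1] (pt (nat_lit 0))) (ivl (nat_lit 0) (nat_lit 1755)) = true := by
  decide +kernel

theorem primK_2 : Nat.beq (grow T ([5] :: WK) [0, 1, 3, 0, 1, 3, 0, 1, 3, 0, 1, 3, 0, 1, 3, 0, 1, 3, 0, 3] (pt (nat_lit 0))) (ivl (nat_lit 0) (nat_lit 1755)) = true := by
  decide +kernel

theorem primK_3 : Nat.beq (grow T ([5, 0, 3, 5, 4] :: WK) [0, 1, 3, 1, 1, 4, 3, 1, 1, 3, 1, 4, 3, 1, 3, 1, 0, 3, 1, 3, 1, 3, 1] (pt (nat_lit 0))) (ivl (nat_lit 0) (nat_lit 1755)) = true := by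
  decide +kernel

theorem primK : Prim (eps.ker.map phi) 0 :=
  prim_of_cert (W := WK) (ts := primKT) (sch := [0, 2, 0, 2, 0, 3, 2, 0, 2, 0, 3, 2, 0, 2, 0, 3, 0, 2, 0, 0]) ok (rep.map_le_bd _) (by norm_num) (rep.mem_map (by decide +kernel) (sign.le (by decide +kernel) (by decide +kernel))) (by decide +kernel)
    (fun t ht => rep.mem_map (W := primKT.map Prod.fst) (by decide +kernel) (sign.le (by decide +kernel) (by decide +kernel)) (ev_mem_genW (List.mem_map_of_mem ht))) (by decide +kernel)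
    (by simp only [primKT, List.forall_mem_cons]; exact ⟨primK_0, primK_1, primK_2, primK_3, by simp⟩)

def XP : List (List Nat) := [[0, 5, 2, 0, 5, 2, 0, 5, 2, 0, 5, 2, 0, 5, 2, 0, 5, 2, 0, 5, 2, 0, 5, 2, 0, 5, 2, 0, 5, 2, 0, 5, 2, 0, 5, 2, 0, 5, 2]]

theorem satX : Sat (sig T) XP :=
  sat_of_relsP ok (by norm_num) (show relsP (nat_lit 1755) (nat_lit 11) (nat_lit 0) (nat_lit 11) T XP = true by decide +kernel)

theorem simpleK : IsSimpleGroup eps.ker :=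
  rep.simple_normal' (m := 10240) (p := 13) (X := [[0, 5, 2]]) card.2.2 (by norm_num) (by norm_num) index2 transK primK cardK
    (by norm_num) (by norm_num) pres.sat Col.index (by decide +kernel) (by decide +kernel) (satX.mono (by decide +kernel))

theorem comm_eq : commutator G = eps.ker :=
  have := simpleK
  commutator_eq_ker eps (by rw [cardK]; norm_num)

end Cfsg.Agent.Comp.F42
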